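import Cfsg.Agent.ConwayFacts.NormPerm
import Cfsg.Agent.MonsterU.ModFinal
import Cfsg.Agent.S0372

/-!
# The automorphisms of `Co1` and `Co0` are inner

* `inner` : every automorphism of `Co1` is inner;
* `inner_of_equiv`, `conj_range` : the same for every group isomorphic to `Co1`;
* `commutator_Co0` : `Co0` is perfect; `inner_Co0` : every automorphism of `Co0` is inner.
-/

set_option autoImplicit false

universe u

namespace Cfsg.Agent.ConwayFacts.AutCo1

open Cfsg Cfsg.Spor
open Cfsg.Agent.ConwayFacts.NormL2 Cfsg.Agent.ConwayFacts.NormPerm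
open Cfsg.Agent.MonsterU.Lam2
open Cfsg.Agent.SporadicA
open Cfsg.Agent.SporadicA.Co0Mono hiding smul_add smul_sub smul_neg smul_zero mk_smul
open Cfsg.Agent.SporadicA.Co1Simple

/-- **Every automorphism of `Co1` is inner.** -/
theorem inner (α : MulAut Co1) : ∃ s : Co1, ∀ g, α g = s * g * s⁻¹ := by
  let ρ : Representation (ZMod 2) Co1 L2 := rep1.comp α.toMonoidHom
  have hρ : ∀ g x, ρ g x = α g • x := fun g x => rfl
  have hne : ∃ g v, ρ g v ≠ v := by
    obtain ⟨g, v, hgv⟩ := Cfsg.Agent.MonsterU.ModGlue.rep1_ne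
    refine ⟨α.symm g, v, ?_⟩
    have h1 : ρ (α.symm g) v = rep1 g v := by
      rw [hρ, rep1_apply]
      exact congrArg (fun t : Co1 => t • v) (α.apply_symm_apply g)
    rw [h1]; exact hgv
  obtain ⟨e, he⟩ := Cfsg.Agent.MonsterU.ModFinal.moduleThm.{0} L2 card_L2 ρ hne
  have hN : Nor e.symm.toAddEquiv α := by
    intro g x
    show e.symm (g • x) = α g • e.symm x
    rw [LinearEquiv.symm_apply_eq]
    have h1 := he g (e.symm x)
    rw [LinearEquiv.apply_symm_apply] at h1
    exact h1.symm
  obtain ⟨s, hs⟩ := exists_smul hN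
  refine ⟨s, fun g => eq_of_smul fun x => ?_⟩
  have h1 := hN g (s⁻¹ • x)
  rw [hs, hs, smul_inv_smul] at h1
  rw [mul_smul, mul_smul]
  exact h1.symm

theorem inner_of_equiv {G : Type u} [Group G] (e : G ≃* Co1) (α : MulAut G) : ∃ s : G, ∀ g, α g = s * g * s⁻¹ := by
  obtain ⟨s, hs⟩ := inner ((e.symm.trans α).trans e)
  refine ⟨e.symm s, fun g => e.injective ?_⟩
  have h1 := hs (e g)
  rw [MulEquiv.trans_apply, MulEquiv.trans_apply, MulEquiv.symm_apply_apply] at h1
  rw [h1, map_mul, map_mul, map_inv, MulEquiv.apply_symm_apply]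

theorem conj_range {G : Type u} [Group G] (e : G ≃* Co1) : (MulAut.conj : G →* MulAut G).range = ⊤ := by
  rw [eq_top_iff]
  intro α _
  obtain ⟨s, hs⟩ := inner_of_equiv e α
  exact ⟨s, MulEquiv.ext fun g => (hs g).symm⟩

/-! ### `Co0` -/

theorem q_projInv : ∀ i : GolayPt, qrWord 0 i + qrWord 0 (projInv.symm i) = 1 := by decide +kernel

theorem allOne_mem_commutator : signCo0 allOne ∈ commutator Co0 := by
  let τ : M24 := ⟨projInv, Cfsg.Agent.S0372.result⟩
  have h : allOne = wordPerm τ (q 0) + q 0 := by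
    apply Subtype.ext
    funext i
    have h1 := q_projInv i
    rw [add_comm] at h1
    exact h1.symm
  rw [h, signCo0_add, ← perm_mul_sign_mul_inv]
  have h2 : (signCo0 (q 0))⁻¹ = signCo0 (q 0) := by
    rw [inv_eq_iff_mul_eq_one, ← signCo0_add, signCo0_add_self, signCo0_zero]
  have h3 := Subgroup.commutator_mem_commutator (Subgroup.mem_top (permCo0 τ)) (Subgroup.mem_top (signCo0 (q 0)))
  rw [commutatorElement_def, h2] at h3
  exact h3

theorem center_le_commutator : Subgroup.center Co0 ≤ commutator Co0 := by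
  intro z hz
  rcases Co0Basic.eq_one_or_neg_of_mem_center hz with h | h
  · rw [h]; exact Subgroup.one_mem _
  · have h1 : z = signCo0 allOne := by
      rw [h]
      apply Cfsg.Agent.SporadicA.Co0Mono.ext
      intro v
      rw [allOne_smul]; rfl
    rw [h1]; exact allOne_mem_commutator

/-- `Co0` is perfect. -/
theorem commutator_Co0 : commutator Co0 = ⊤ := by
  have hs : IsSimpleGroup (Co0 ⧸ Subgroup.center Co0) := Cfsg.Agent.S0399.result.1
  have hn : (commutator Co0).map (QuotientGroup.mk' (Subgroup.center Co0)) = ⊤ := by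
    have h1 : ((commutator Co0).map (QuotientGroup.mk' (Subgroup.center Co0))).Normal :=
      Subgroup.Normal.map inferInstance _ (QuotientGroup.mk'_surjective _)
    rcases h1.eq_bot_or_eq_top with h2 | h2
    · exfalso
      have hle : commutator Co0 ≤ Subgroup.center Co0 := by
        have h3 := (Subgroup.map_eq_bot_iff _).1 h2
        rwa [QuotientGroup.ker_mk'] at h3
      -- then `Co1` is abelian
      have hab : ∀ a b : Co0 ⧸ Subgroup.center Co0, a * b = b * a := by
        intro a b
        obtain ⟨x, rfl⟩ := QuotientGroup.mk_surjective a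
        obtain ⟨y, rfl⟩ := QuotientGroup.mk_surjective b
        rw [← QuotientGroup.mk_mul, ← QuotientGroup.mk_mul, QuotientGroup.eq]
        have h4 := Subgroup.commutator_mem_commutator (Subgroup.mem_top y⁻¹) (Subgroup.mem_top x⁻¹)
        rw [commutatorElement_def] at h4
        have h5 : (x * y)⁻¹ * (y * x) = y⁻¹ * x⁻¹ * (y⁻¹)⁻¹ * (x⁻¹)⁻¹ := by group
        rw [h5]; exact hle h4
      have hc : Nat.card (Co0 ⧸ Subgroup.center Co0) = 4157776806543360000 :=
        Cfsg.Agent.MonsterU.CoFrameF.card_Co1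
      let _ : CommGroup (Co0 ⧸ Subgroup.center Co0) := { (inferInstance : Group (Co0 ⧸ Subgroup.center Co0)) with
        mul_comm := hab }
      have hp : (Nat.card (Co0 ⧸ Subgroup.center Co0)).Prime := IsSimpleGroup.prime_card
      rw [hc] at hp
      revert hp
      norm_num
    · exact h2
  rw [eq_top_iff]
  intro g _
  have h1 : (QuotientGroup.mk' (Subgroup.center Co0)) g ∈
      (commutator Co0).map (QuotientGroup.mk' (Subgroup.center Co0)) := by rw [hn]; trivial
  obtain ⟨x, hx, hxg⟩ := h1
  have h2 : x⁻¹ * g ∈ Subgroup.center Co0 := QuotientGroup.eq.1 hxg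
  have h3 := (commutator Co0).mul_mem hx (center_le_commutator h2)
  rwa [mul_inv_cancel_left] at h3

/-- Two homomorphisms from a perfect group which agree modulo the centre are equal. -/
theorem eq_of_mod_center {G : Type u} [Group G] (hp : commutator G = ⊤) (β γ : MulAut G)
    (hz : ∀ g, β g * (γ g)⁻¹ ∈ Subgroup.center G) : β = γ := by
  let ζ : G →* Subgroup.center G :=
    { toFun := fun g => ⟨β g * (γ g)⁻¹, hz g⟩
      map_one' := by
        apply Subtype.ext
        show β 1 * (γ 1)⁻¹ = 1
        rw [map_one, map_one, inv_one, mul_one]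
      map_mul' := by
        intro a b
        apply Subtype.ext
        show β (a * b) * (γ (a * b))⁻¹ = β a * (γ a)⁻¹ * (β b * (γ b)⁻¹)
        have h1 := Subgroup.mem_center_iff.1 (hz b) (γ a)⁻¹
        rw [mul_assoc (β a), h1, map_mul, map_mul, mul_inv_rev]
        simp only [mul_assoc] }
  have hcm : ∀ a b : Subgroup.center G, a * b = b * a := fun a b =>
    Subtype.ext (Subgroup.mem_center_iff.1 b.2 a)
  have hker : commutator G ≤ ζ.ker := by
    rw [commutator_def, Subgroup.commutator_le]
    intro a _ b _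
    rw [MonoidHom.mem_ker, commutatorElement_def, map_mul, map_mul, map_mul, map_inv, map_inv, hcm (ζ a) (ζ b),
      mul_inv_cancel_right, mul_inv_cancel]
  rw [hp] at hker
  ext g
  have h1 : ζ g = 1 := hker (Subgroup.mem_top g)
  have h2 : β g * (γ g)⁻¹ = 1 := congrArg Subtype.val h1
  exact mul_inv_eq_one.1 h2

/-- the automorphism of the quotient by the centre -/
theorem exists_quot_aut {G : Type u} [Group G] (β : MulAut G) :
    ∃ α : MulAut (G ⧸ Subgroup.center G), ∀ g : G, α (QuotientGroup.mk g) = QuotientGroup.mk (β g) := by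
  have hc : ∀ z : G, z ∈ Subgroup.center G ↔ β z ∈ Subgroup.center G := by
    intro z
    rw [Subgroup.mem_center_iff, Subgroup.mem_center_iff]
    constructor
    · intro h g
      obtain ⟨g, rfl⟩ := β.surjective g
      rw [← map_mul, h, map_mul]
    · intro h g
      apply β.injective
      rw [map_mul, map_mul, h]
  have he : (Subgroup.center G).map (β : G ≃* G) = Subgroup.center G := by
    ext z
    constructor
    · rintro ⟨y, hy, rfl⟩; exact (hc y).1 hy
    · intro hz
      obtain ⟨y, rfl⟩ := β.surjective z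
      exact ⟨y, (hc y).2 hz, rfl⟩
  exact ⟨QuotientGroup.congr (Subgroup.center G) (Subgroup.center G) β he, fun g => rfl⟩

/-- Automorphisms of a perfect group from those of the quotient by the centre. -/
theorem inner_of_quot {G : Type u} [Group G] (hp : commutator G = ⊤)
    (h : ∀ α : MulAut (G ⧸ Subgroup.center G), ∃ s, ∀ g, α g = s * g * s⁻¹) (β : MulAut G) :
    ∃ s : G, ∀ g, β g = s * g * s⁻¹ := by
  obtain ⟨α, hα⟩ := exists_quot_aut β
  obtain ⟨s, hs⟩ := h α
  obtain ⟨t, rfl⟩ := QuotientGroup.mk_surjective s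
  refine ⟨t, ?_⟩
  have h0 : β = MulAut.conj t := by
    apply eq_of_mod_center hp
    intro g
    have h1 := hs (QuotientGroup.mk g)
    rw [hα, ← QuotientGroup.mk_mul, ← QuotientGroup.mk_inv, ← QuotientGroup.mk_mul] at h1
    have h2 := QuotientGroup.eq.1 h1.symm
    have h3 := Subgroup.Normal.conj_mem inferInstance _ h2 (t * g * t⁻¹)
    rwa [mul_inv_cancel_left] at h3
  intro g
  rw [h0]; rfl

/-- **Every automorphism of `Co0` is inner.** -/
theorem inner_Co0 (β : MulAut Co0) : ∃ s : Co0, ∀ g, β g = s * g * s⁻¹ :=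
  inner_of_quot commutator_Co0 inner β

end Cfsg.Agent.ConwayFacts.AutCo1
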