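import Cfsg.Agent.ConwayFacts.NormL2

/-!
# The action of a normalising map on the frame

Continuation of `NormL2`: the pairing on `L2`, the duads, the permutation of the 24 points.
-/

set_option autoImplicit false

namespace Cfsg.Agent.ConwayFacts.NormFrame

open Cfsg Cfsg.Spor
open Cfsg.Agent.ConwayFacts.NormL2
open Cfsg.Agent.MonsterU.Lam2
open Cfsg.Agent.MonsterU.CoFrame Cfsg.Agent.MonsterU.CoFrameAct Cfsg.Agent.MonsterU.CoFrameSep
open Cfsg.Agent.MonsterU.CoFrameL2
open Cfsg.Agent.SporadicA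
open Cfsg.Agent.SporadicA.Co0Mono
open Cfsg.Agent.SporadicA.Co1Simple
open Cfsg.Agent.SporadicStructure.Co0Base (e8 e8_coe)
open Cfsg.Agent.SporadicStructure.LeechBase (zmod2_cases)
open Cfsg.Agent.CoOneType.SignFacts
open Cfsg.Agent.CoOneType.CoOneE (pr pr_surjective E mem_E)

/-! ### The pairing -/

/-- the pairing with a word as a homomorphism on the lattice -/
def pairHom (c : golayCode) : leechLattice →+ ZMod 2 where
  toFun v := pair v c
  map_zero' := pair_zero_left c
  map_add' u v := pair_add u v c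

/-- the pairing with a word -/
noncomputable def pp (c : golayCode) : L2 →+ ZMod 2 :=
  QuotientAddGroup.lift twoL (pairHom c) (by
    intro v hv
    obtain ⟨u, rfl⟩ := mem_twoL.1 hv
    exact pair_two u c)

theorem pp_cl (c : golayCode) (v : leechLattice) : pp c (cl v) = pair v c := rfl

theorem mem_W1_iff_pp {x : L2} (hx : x ∈ W12) : x ∈ W1 ↔ ∀ c, pp c x = 0 := by
  obtain ⟨v, rfl⟩ := cl_surjective x
  rw [cl_mem_W1, mem_V1_iff_pair (cl_mem_W12.1 hx)]
  rfl

theorem pp_smul (c : golayCode) (a : ZMod 2) (x : L2) : pp c (a • x) = a * pp c x := by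
  rcases zmod2_cases a with rfl | rfl
  · rw [zero_smul, map_zero, zero_mul]
  · rw [one_smul, one_mul]

/-! ### The elements `D i` -/

/-- the class of `4 e_i - 4 e_∞` -/
noncomputable def D (i : GolayPt) : L2 := cl (duad i none)

theorem duad_self (i : GolayPt) : duad i i = 0 := by
  apply Subtype.ext
  funext k
  rw [duad_coe]
  show _ = (0 : ℤ)
  ring

theorem D_none : D none = 0 := by
  unfold D
  rw [duad_self, map_zero]

theorem cl_duad (i j : GolayPt) : cl (duad i j) = D i + D j := by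
  have h : duad i j = duad i none - duad j none := by
    apply Subtype.ext
    funext k
    rw [coe_sub', duad_coe, duad_coe, duad_coe]
    ring
  rw [h, cl_sub]
  rfl

theorem D_mem (i : GolayPt) : D i ∈ W12 := cl_mem_W12.2 (duad_mem i none)

theorem pp_D (c : golayCode) (i : GolayPt) :
    pp c (D i) = (c : GolayPt → ZMod 2) i + (c : GolayPt → ZMod 2) none := pair_duad i none c

theorem sqNorm_duad {i j : GolayPt} (h : i ≠ j) : sqNorm ((duad i j : leechLattice) : GolayPt → ℤ) = 32 := by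
  unfold sqNorm
  have e : ∀ k, ((duad i j : leechLattice) : GolayPt → ℤ) k ^ 2 =
      16 * (if k = i then 1 else 0) + 16 * (if k = j then 1 else 0) := by
    intro k
    rw [duad_coe]
    by_cases h1 : k = i
    · have h2 : k ≠ j := fun h2 => h (h1.symm.trans h2)
      rw [if_pos h1, if_neg h2]; norm_num
    · by_cases h2 : k = j
      · rw [if_neg h1, if_pos h2]; norm_num
      · rw [if_neg h1, if_neg h2]; norm_num
  rw [Finset.sum_congr rfl fun k _ => e k, Finset.sum_add_distrib, ← Finset.mul_sum, ← Finset.mul_sum,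
    Finset.sum_ite_eq', Finset.sum_ite_eq']
  simp

theorem isType_duad {i j : GolayPt} (h : i ≠ j) : IsType 2 (D i + D j) := by
  rw [← cl_duad]
  exact ⟨duad i j, by rw [sqNorm_duad h]; norm_num, rfl⟩

/-- the sum of the `D i` over a word -/
noncomputable def Dw (w : GolayPt → ZMod 2) : L2 := ∑ i, w i • D i

theorem Dw_add (w w' : GolayPt → ZMod 2) : Dw (w + w') = Dw w + Dw w' := by
  unfold Dw
  rw [← Finset.sum_add_distrib]
  exact Finset.sum_congr rfl fun i _ => add_smul _ _ _

theorem Dw_zero : Dw 0 = 0 := by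
  unfold Dw
  exact Finset.sum_eq_zero fun i _ => zero_smul _ _

theorem Dw_single (i : GolayPt) : Dw (Pi.single i 1) = D i := by
  unfold Dw
  rw [Finset.sum_eq_single i]
  · rw [Pi.single_eq_same, one_smul]
  · intro j _ hj
    rw [Pi.single_eq_of_ne hj, zero_smul]
  · intro h; exact absurd (Finset.mem_univ _) h

theorem smul_mem' (a : ZMod 2) {x : L2} {S : AddSubgroup L2} (hx : x ∈ S) : a • x ∈ S := by
  rcases zmod2_cases a with rfl | rfl
  · rw [zero_smul]; exact S.zero_mem
  · rw [one_smul]; exact hx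

theorem Dw_mem (w : GolayPt → ZMod 2) : Dw w ∈ W12 :=
  sum_mem fun i _ => smul_mem' _ (D_mem i)

theorem Dw_mem_W1_iff {w : GolayPt → ZMod 2} (hw : ∑ i, w i = 0) : Dw w ∈ W1 ↔ w ∈ golayCode := by
  rw [mem_W1_iff_pp (Dw_mem w)]
  have h : ∀ c, pp c (Dw w) = ∑ i, w i * (c : GolayPt → ZMod 2) i := by
    intro c
    unfold Dw
    rw [map_sum]
    have h1 : ∀ i, pp c (w i • D i) = w i * (c : GolayPt → ZMod 2) i + w i * (c : GolayPt → ZMod 2) none := by
      intro i
      rw [pp_smul, pp_D, mul_add]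
    rw [Finset.sum_congr rfl fun i _ => h1 i, Finset.sum_add_distrib, ← Finset.sum_mul, hw, zero_mul, add_zero]
  constructor
  · intro h1
    exact mem_code_of_orth w fun c => by rw [← h]; exact h1 c
  · intro h1 c
    rw [h]
    exact Co0Basic.code_dot h1 c.2

/-! ### Type 2 in `W12` -/

theorem sum_sq_two {w : GolayPt → ℤ} (h : ∑ i, w i ^ 2 = 2) :
    ∃ i j, i ≠ j ∧ (w i = 1 ∨ w i = -1) ∧ (w j = 1 ∨ w j = -1) ∧ ∀ k, k ≠ i → k ≠ j → w k = 0 := by
  classical
  have hone : ∀ a : ℤ, a ≠ 0 → a ^ 2 ≤ 2 → (a = 1 ∨ a = -1) := by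
    intro a ha h2
    have h3 : a < 2 := by nlinarith
    have h4 : -2 < a := by nlinarith
    omega
  obtain ⟨i, hi⟩ : ∃ i, w i ≠ 0 := by
    by_contra hn
    push Not at hn
    rw [Finset.sum_eq_zero fun i _ => by rw [hn i]; norm_num] at h
    norm_num at h
  have h1 := Finset.add_sum_erase Finset.univ (fun k => w k ^ 2) (Finset.mem_univ i)
  rw [h] at h1
  have hpos : ∀ (s : Finset GolayPt), 0 ≤ ∑ k ∈ s, w k ^ 2 := fun s => Finset.sum_nonneg fun k _ => sq_nonneg _
  have h2 := hone (w i) hi (by have := hpos (Finset.univ.erase i); linarith)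
  have h3 : w i ^ 2 = 1 := by rcases h2 with h2 | h2 <;> rw [h2] <;> norm_num
  have h1' : ∑ k ∈ Finset.univ.erase i, w k ^ 2 = 1 := by
    have h1'' : w i ^ 2 + ∑ k ∈ Finset.univ.erase i, w k ^ 2 = 2 := h1
    linarith
  obtain ⟨j, hj, hj0⟩ : ∃ j ∈ Finset.univ.erase i, w j ≠ 0 := by
    by_contra hn
    push Not at hn
    rw [Finset.sum_eq_zero fun k hk => by rw [hn k hk]; norm_num] at h1'
    norm_num at h1'
  have h4 := Finset.add_sum_erase (Finset.univ.erase i) (fun k => w k ^ 2) hj
  rw [h1'] at h4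
  have h4' : w j ^ 2 + ∑ k ∈ (Finset.univ.erase i).erase j, w k ^ 2 = 1 := h4
  have h5 := hone (w j) hj0 (by have := hpos ((Finset.univ.erase i).erase j); linarith)
  have h6 : w j ^ 2 = 1 := by rcases h5 with h2 | h2 <;> rw [h2] <;> norm_num
  have h7 : ∑ k ∈ (Finset.univ.erase i).erase j, w k ^ 2 = 0 := by linarith
  rw [Finset.sum_eq_zero_iff_of_nonneg fun k _ => sq_nonneg _] at h7
  refine ⟨i, j, (Finset.ne_of_mem_erase hj).symm, h2, h5, fun k hki hkj => ?_⟩
  have := h7 k (by simp [hki, hkj])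
  exact pow_eq_zero_iff (two_ne_zero) |>.1 this

theorem e8_mem_V1' (i : GolayPt) : e8 i ∈ V1 := Or.inr (cong_e8 i none)

/-- minimal vectors in `V12` -/
theorem duad_of_norm {v : leechLattice} (hv : v ∈ V12) (h : sqNorm (v : GolayPt → ℤ) = 32) :
    ∃ i j, i ≠ j ∧ v - duad i j ∈ V1 := by
  -- all the coordinates are divisible by 4
  have h4 : ∀ i, (4 : ℤ) ∣ (v : GolayPt → ℤ) i := by
    by_contra hn
    push Not at hn
    obtain ⟨i, hi⟩ := hn
    have h1 : ∀ k, 4 ≤ (v : GolayPt → ℤ) k ^ 2 := by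
      intro k
      have h2 := hv.1 k
      have h3 := hv.2 k i
      have h5 : (v : GolayPt → ℤ) k ≠ 0 := by
        intro h0
        apply hi
        omega
      rcases lt_or_gt_of_ne h5 with h6 | h6
      · have : (v : GolayPt → ℤ) k ≤ -2 := by omega
        nlinarith
      · have : 2 ≤ (v : GolayPt → ℤ) k := by omega
        nlinarith
    have h2 : ∑ _k : GolayPt, (4 : ℤ) ≤ sqNorm (v : GolayPt → ℤ) := by
      unfold sqNorm
      exact Finset.sum_le_sum fun k _ => h1 k
    rw [h, Finset.sum_const, Finset.card_univ, show Fintype.card GolayPt = 24 from rfl] at h2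
    norm_num at h2
  choose w hw using h4
  have h2 : ∑ i, w i ^ 2 = 2 := by
    unfold sqNorm at h
    have h3 : ∑ i, (v : GolayPt → ℤ) i ^ 2 = 16 * ∑ i, w i ^ 2 := by
      rw [Finset.mul_sum]
      exact Finset.sum_congr rfl fun i _ => by rw [hw i]; ring
    rw [h3] at h
    linarith
  obtain ⟨i, j, hij, hi, hj, hk⟩ := sum_sq_two h2
  refine ⟨i, j, hij, ?_⟩
  have key : v - duad i j = (if w i = 1 then 0 else -e8 i) + (if w j = 1 then e8 j else 0) := by
    apply Subtype.ext
    funext k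
    rw [coe_sub', coe_add', duad_coe, hw k]
    have e1 : ((if w i = 1 then (0 : leechLattice) else -e8 i : leechLattice) : GolayPt → ℤ) k =
        if w i = 1 then 0 else -(if k = i then 8 else 0) := by
      by_cases h : w i = 1
      · rw [if_pos h, if_pos h]; rfl
      · rw [if_neg h, if_neg h, ← coe_e8]; rfl
    have e2 : ((if w j = 1 then e8 j else (0 : leechLattice) : leechLattice) : GolayPt → ℤ) k =
        if w j = 1 then (if k = j then 8 else 0) else 0 := by
      by_cases h : w j = 1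
      · rw [if_pos h, if_pos h, coe_e8]
      · rw [if_neg h, if_neg h]; rfl
    rw [e1, e2]
    by_cases hki : k = i
    · subst hki
      rw [if_neg hij]
      rcases hi with h1 | h1 <;> rw [h1] <;> simp [hij]
    · by_cases hkj : k = j
      · subst hkj
        rcases hj with h1 | h1 <;> rw [h1] <;> simp [hki]
      · rw [hk k hki hkj]
        simp [hki, hkj]
  rw [key]
  refine V1.add_mem ?_ ?_
  · split_ifs
    · exact V1.zero_mem
    · exact V1.neg_mem (e8_mem_V1' i)
  · split_ifs
    · exact e8_mem_V1' j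
    · exact V1.zero_mem

theorem duad_of_type {x : L2} (hx : x ∈ W12) (h : IsType 2 x) :
    ∃ i j, i ≠ j ∧ x + (D i + D j) ∈ W1 := by
  obtain ⟨v, hv, rfl⟩ := h
  obtain ⟨i, j, hij, h1⟩ := duad_of_norm (cl_mem_W12.1 hx) (by rw [hv]; norm_num)
  refine ⟨i, j, hij, ?_⟩
  rw [← cl_duad, ← cl_sub]
  exact cl_mem_W1.2 h1

end Cfsg.Agent.ConwayFacts.NormFrame
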