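import Cfsg.Agent.MonsterU.CoFrame23
import Cfsg.Agent.MonsterU.CoFrameF
import Cfsg.Agent.MonsterU.CoFrameIrr
import Cfsg.Agent.S0394
import Cfsg.Agent.S0391

/-!
# The normaliser of `Co1` in the general linear group of `Λ / 2Λ`

`exists_smul` : an additive bijection `f` of `L2 = Λ / 2Λ` with `f (g • x) = α g • f x` for an automorphism
`α` of `Co1` is the action of an element of `Co1`.
-/

set_option autoImplicit false

namespace Cfsg.Agent.ConwayFacts.NormL2

open Cfsg Cfsg.Spor
open Cfsg.Agent.MonsterU.Lam2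
open Cfsg.Agent.MonsterU.CoFrame Cfsg.Agent.MonsterU.CoFrameAct Cfsg.Agent.MonsterU.CoFrameSep
open Cfsg.Agent.MonsterU.CoFrameL2
open Cfsg.Agent.SporadicA.Co0Mono
open Cfsg.Agent.SporadicA.Co1Simple
open Cfsg.Agent.SporadicStructure.Co0Base (e8 e8_coe)
open Cfsg.Agent.SporadicStructure.LeechBase (zmod2_cases)
open Cfsg.Agent.CoOneType.SignFacts
open Cfsg.Agent.CoOneType.CoOneE (pr pr_surjective E mem_E)

/-! ### The number of classes of types 2 and 4 -/

/-- congruent minimal vectors are equal up to sign -/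
theorem eq_or_neg {v w : leechLattice} (hv : sqNorm (v : GolayPt → ℤ) = 32) (hw : sqNorm (w : GolayPt → ℤ) = 32)
    (h : cl v = cl w) : v = w ∨ v = -w := by
  obtain ⟨u, hu⟩ := cl_eq.1 h
  have h1 : sqNorm ((v - w : leechLattice) : GolayPt → ℤ) = 4 * sqNorm (u : GolayPt → ℤ) := by
    rw [hu, sqNorm, sqNorm, Finset.mul_sum]
    refine Finset.sum_congr rfl fun i _ => ?_
    rw [AddSubgroup.coe_nsmul, Pi.smul_apply, nsmul_eq_mul]
    push_cast; ring
  have h2 : sqNorm ((v + w : leechLattice) : GolayPt → ℤ) = 4 * sqNorm ((u + w : leechLattice) : GolayPt → ℤ) := by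
    have : v + w = 2 • (u + w) := by rw [nsmul_add, ← hu, two_nsmul]; abel
    rw [this, sqNorm, sqNorm, Finset.mul_sum]
    refine Finset.sum_congr rfl fun i _ => ?_
    rw [AddSubgroup.coe_nsmul, Pi.smul_apply, nsmul_eq_mul]
    push_cast; ring
  have h3 : sqNorm ((v - w : leechLattice) : GolayPt → ℤ) + sqNorm ((v + w : leechLattice) : GolayPt → ℤ) = 128 := by
    have e : sqNorm ((v - w : leechLattice) : GolayPt → ℤ) + sqNorm ((v + w : leechLattice) : GolayPt → ℤ) =
        2 * sqNorm (v : GolayPt → ℤ) + 2 * sqNorm (w : GolayPt → ℤ) := by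
      rw [sqNorm, sqNorm, sqNorm, sqNorm, ← Finset.sum_add_distrib, Finset.mul_sum, Finset.mul_sum,
        ← Finset.sum_add_distrib]
      refine Finset.sum_congr rfl fun i _ => ?_
      rw [AddSubgroup.coe_sub, AddSubgroup.coe_add, Pi.sub_apply, Pi.add_apply]
      ring
    rw [e, hv, hw]; norm_num
  by_cases hu0 : u = 0
  · left
    rw [hu0, nsmul_zero] at hu
    exact sub_eq_zero.1 hu
  · by_cases huw : u + w = 0
    · right
      have : v + w = 2 • (u + w) := by rw [nsmul_add, ← hu, two_nsmul]; abel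
      rw [huw, nsmul_zero] at this
      exact eq_neg_of_add_eq_zero_left this
    · exfalso
      have h4 : (32 : ℤ) ≤ sqNorm (u : GolayPt → ℤ) :=
        Cfsg.Agent.S0391.result u u.2 (fun h => hu0 (Subtype.ext h))
      have h5 : (32 : ℤ) ≤ sqNorm ((u + w : leechLattice) : GolayPt → ℤ) :=
        Cfsg.Agent.S0391.result _ (u + w).2 (fun h => huw (Subtype.ext h))
      omega

theorem sqNorm_neg' (v : leechLattice) : sqNorm ((-v : leechLattice) : GolayPt → ℤ) = sqNorm (v : GolayPt → ℤ) := by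
  unfold sqNorm
  refine Finset.sum_congr rfl fun i _ => ?_
  show (-(v : GolayPt → ℤ) i) ^ 2 = _
  ring

theorem ne_neg {v : leechLattice} (hv : sqNorm (v : GolayPt → ℤ) = 32) : v ≠ -v := by
  intro h
  have h0 : ∀ i, (v : GolayPt → ℤ) i = 0 := by
    intro i
    have h1 : (v : GolayPt → ℤ) i = -(v : GolayPt → ℤ) i := congrArg (fun w : leechLattice => (w : GolayPt → ℤ) i) h
    omega
  have h2 : sqNorm (v : GolayPt → ℤ) = 0 := by
    unfold sqNorm
    exact Finset.sum_eq_zero fun i _ => by rw [h0 i]; norm_num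
  rw [h2] at hv
  norm_num at hv

instance : Finite L2 := Nat.finite_of_card_ne_zero (by rw [card_L2]; norm_num)

theorem ncard_two : {x : L2 | IsType 2 x}.ncard = 98280 := by
  classical
  have h0 : {v : leechLattice | sqNorm (v : GolayPt → ℤ) = 32}.ncard = 196560 := by
    rw [← Cfsg.Agent.S0394.result, ← Set.ncard_image_of_injective _ Subtype.val_injective]
    congr 1
    ext x
    constructor
    · rintro ⟨v, hv, rfl⟩; exact ⟨v.2, hv⟩
    · rintro ⟨hx, hn⟩; exact ⟨⟨x, hx⟩, hn, rfl⟩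
  have hf : {v : leechLattice | sqNorm (v : GolayPt → ℤ) = 32}.Finite :=
    Set.finite_of_ncard_ne_zero (by rw [h0]; norm_num)
  obtain ⟨S, hS⟩ : ∃ S : Finset leechLattice, ∀ v, v ∈ S ↔ sqNorm (v : GolayPt → ℤ) = 32 :=
    ⟨hf.toFinset, fun v => by rw [Set.Finite.mem_toFinset]; rfl⟩
  have hSc : S.card = 196560 := by
    rw [← h0, ← Set.ncard_coe_finset]; congr 1; ext v; exact hS v
  have hfib : ∀ x ∈ S.image cl, (S.filter fun v => cl v = x).card = 2 := by
    intro x hx
    obtain ⟨v, hv, rfl⟩ := Finset.mem_image.1 hx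
    have h1 : (S.filter fun w => cl w = cl v) = {v, -v} := by
      ext w
      rw [Finset.mem_filter, Finset.mem_insert, Finset.mem_singleton]
      constructor
      · rintro ⟨hw, h⟩; exact eq_or_neg ((hS w).1 hw) ((hS v).1 hv) h
      · rintro (rfl | rfl)
        · exact ⟨hv, rfl⟩
        · exact ⟨(hS _).2 (by rw [sqNorm_neg']; exact (hS _).1 hv), cl_neg v⟩
    rw [h1, Finset.card_pair (ne_neg ((hS v).1 hv))]
  have h3 := Finset.card_eq_sum_card_image cl S
  rw [Finset.sum_congr rfl hfib, Finset.sum_const, smul_eq_mul, hSc] at h3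
  have h2 : {x : L2 | IsType 2 x} = (S.image cl : Set L2) := by
    ext x
    rw [Finset.mem_coe, Finset.mem_image]
    constructor
    · rintro ⟨v, hv, rfl⟩; exact ⟨v, (hS v).2 (by rw [hv]; norm_num), rfl⟩
    · rintro ⟨v, hv, rfl⟩; exact ⟨v, by rw [(hS v).1 hv]; norm_num, rfl⟩
  rw [h2, Set.ncard_coe_finset]; omega

theorem orbit_eq {n : ℤ} (hn : n = 2 ∨ n = 3 ∨ n = 4) {x : L2} (hx : IsType n x) :
    MulAction.orbit Co1 x = {y | IsType n y} := by
  ext y
  constructor
  · rintro ⟨g, rfl⟩; exact hx.smul1 g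
  · intro hy
    obtain ⟨g, hg⟩ := IsType.trans hn hx hy
    exact ⟨QuotientGroup.mk g, hg⟩

theorem isType_f0 : IsType 4 f0 := ⟨e8 none, by rw [sqNorm_e8]; norm_num, rfl⟩

theorem ncard_four : {x : L2 | IsType 4 x}.ncard = 8292375 := by
  rw [← orbit_eq (Or.inr (Or.inr rfl)) isType_f0, ← MulAction.index_stabilizer]
  have h : MulAction.stabilizer Co1 f0 = F := by
    ext g
    rw [MulAction.mem_stabilizer_iff, mem_F_iff]
  rw [h]
  exact Cfsg.Agent.MonsterU.CoFrameF.index_F

theorem ncard_three : 8386560 ≤ {x : L2 | IsType 3 x}.ncard := by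
  have h1 : (Set.univ : Set L2) ⊆ (({0} ∪ {x | IsType 2 x}) ∪ {x | IsType 3 x}) ∪ {x | IsType 4 x} := by
    intro x _
    rcases type_cases x with h | h | h | h
    · exact Or.inl (Or.inl (Or.inl h))
    · exact Or.inl (Or.inl (Or.inr h))
    · exact Or.inl (Or.inr h)
    · exact Or.inr h
  have h2 := Set.ncard_le_ncard h1 (Set.toFinite _)
  rw [Set.ncard_univ, card_L2] at h2
  have h3 := Set.ncard_union_le (({0} ∪ {x : L2 | IsType 2 x}) ∪ {x | IsType 3 x}) {x | IsType 4 x}
  have h4 := Set.ncard_union_le ({0} ∪ {x : L2 | IsType 2 x}) {x | IsType 3 x}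
  have h5 := Set.ncard_union_le {0} {x : L2 | IsType 2 x}
  rw [Set.ncard_singleton, ncard_two] at h5
  rw [ncard_four] at h3
  rw [show (2 : ℕ) ^ 24 = 16777216 by norm_num] at h2
  omega

/-! ### Semi-linear maps -/

/-- `f` normalises `Co1` -/
def Nor (f : L2 ≃+ L2) (α : MulAut Co1) : Prop := ∀ g x, f (g • x) = α g • f x

variable {f : L2 ≃+ L2} {α : MulAut Co1}

theorem Nor.symm (h : Nor f α) : Nor f.symm α.symm := by
  intro g x
  apply f.injective
  rw [h, AddEquiv.apply_symm_apply, AddEquiv.apply_symm_apply]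
  exact congrArg (fun t : Co1 => t • x) (α.apply_symm_apply g).symm

/-- the action of an element -/
noncomputable def sm (s : Co1) : L2 ≃+ L2 := DistribMulAction.toAddEquiv L2 s

theorem sm_apply (s : Co1) (x : L2) : sm s x = s • x := rfl

theorem Nor.comp (h : Nor f α) (s : Co1) : Nor (f.trans (sm s)) (α.trans (MulAut.conj s)) := by
  intro g x
  show s • f (g • x) = (s * α g * s⁻¹) • (s • f x)
  rw [h, mul_smul, mul_smul, inv_smul_smul]

theorem Nor.orbit (h : Nor f α) (x : L2) :
    (MulAction.orbit Co1 (f x)).ncard = (MulAction.orbit Co1 x).ncard := by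
  have h1 : MulAction.orbit Co1 (f x) = f '' MulAction.orbit Co1 x := by
    ext y
    constructor
    · rintro ⟨g, rfl⟩
      refine ⟨α.symm g • x, ⟨α.symm g, rfl⟩, ?_⟩
      rw [h]
      exact congrArg (fun t : Co1 => t • f x) (α.apply_symm_apply g)
    · rintro ⟨_, ⟨g, rfl⟩, rfl⟩
      exact ⟨α g, (h g x).symm⟩
  rw [h1, Set.ncard_image_of_injective _ f.injective]

theorem ne_zero_of_type {n : ℤ} (hn : n = 2 ∨ n = 4) {x : L2} (hx : IsType n x) : x ≠ 0 := by
  rintro rfl
  have h1 : MulAction.orbit Co1 (0 : L2) = {0} := by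
    ext y
    constructor
    · rintro ⟨g, rfl⟩; exact smul_zero g
    · rintro rfl; exact ⟨1, smul_zero _⟩
  rcases hn with rfl | rfl
  · have h2 := ncard_two
    rw [← orbit_eq (Or.inl rfl) hx, h1, Set.ncard_singleton] at h2
    norm_num at h2
  · have h2 := ncard_four
    rw [← orbit_eq (Or.inr (Or.inr rfl)) hx, h1, Set.ncard_singleton] at h2
    norm_num at h2

theorem Nor.type_two (h : Nor f α) {x : L2} (hx : IsType 2 x) : IsType 2 (f x) := by
  have h0 := h.orbit x
  rw [orbit_eq (Or.inl rfl) hx, ncard_two] at h0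
  rcases type_cases (f x) with h1 | h1 | h1 | h1
  · exfalso
    apply ne_zero_of_type (Or.inl rfl) hx
    exact f.injective (h1.trans (map_zero f).symm)
  · exact h1
  · exfalso
    rw [orbit_eq (Or.inr (Or.inl rfl)) h1] at h0
    have := ncard_three
    omega
  · exfalso
    rw [orbit_eq (Or.inr (Or.inr rfl)) h1, ncard_four] at h0
    omega

theorem Nor.type_four (h : Nor f α) {x : L2} (hx : IsType 4 x) : IsType 4 (f x) := by
  have h0 := h.orbit x
  rw [orbit_eq (Or.inr (Or.inr rfl)) hx, ncard_four] at h0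
  rcases type_cases (f x) with h1 | h1 | h1 | h1
  · exfalso
    apply ne_zero_of_type (Or.inr rfl) hx
    exact f.injective (h1.trans (map_zero f).symm)
  · exfalso
    rw [orbit_eq (Or.inl rfl) h1, ncard_two] at h0
    omega
  · exfalso
    rw [orbit_eq (Or.inr (Or.inl rfl)) h1] at h0
    have := ncard_three
    omega
  · exact h1

/-- we may suppose that the frame class is fixed -/
theorem Nor.exists_fix (h : Nor f α) : ∃ s : Co1, s • f f0 = f0 := by
  obtain ⟨g, hg⟩ := IsType.trans (Or.inr (Or.inr rfl)) (h.type_four isType_f0) isType_f0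
  exact ⟨QuotientGroup.mk g, hg⟩

theorem Nor.mem_F (h : Nor f α) (h0 : f f0 = f0) (g : Co1) : α g ∈ F ↔ g ∈ F := by
  rw [mem_F_iff, mem_F_iff]
  constructor
  · intro hg
    apply f.injective
    rw [h, h0, hg]
  · intro hg
    have := h g f0
    rw [hg, h0] at this
    exact this.symm

theorem Nor.map_W12 (h : Nor f α) (h0 : f f0 = f0) : W12.map f.toAddMonoidHom = W12 := by
  have hc : Nat.card (W12.map f.toAddMonoidHom) = 2 ^ 12 := by
    rw [← Cfsg.Agent.MonsterU.CoFrameIrr.card_W12]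
    exact (Nat.card_congr (W12.equivMapOfInjective f.toAddMonoidHom f.injective).toEquiv).symm
  have hU : ∀ s ∈ F, ∀ x ∈ W12.map f.toAddMonoidHom, s • x ∈ W12.map f.toAddMonoidHom := by
    rintro s hs _ ⟨x, hx, rfl⟩
    have h1 : α (α.symm s) = s := α.apply_symm_apply s
    refine ⟨α.symm s • x, F_mem_W12 ((h.mem_F h0 _).1 (by rw [h1]; exact hs)) hx, ?_⟩
    show f (α.symm s • x) = s • f x
    rw [h, h1]
  rcases Cfsg.Agent.MonsterU.CoFrameIrr.uniserial _ hU with h1 | h1 | h1 | h1 | h1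
  · rw [h1, AddSubgroup.card_bot] at hc; norm_num at hc
  · rw [h1, Cfsg.Agent.MonsterU.CoFrameIrr.card_W1] at hc; norm_num at hc
  · exact h1
  · rw [h1, Cfsg.Agent.MonsterU.CoFrameIrr.card_W23] at hc; norm_num at hc
  · rw [h1, AddSubgroup.card_top, card_L2] at hc; norm_num at hc

theorem Nor.mem_W12 (h : Nor f α) (h0 : f f0 = f0) {x : L2} (hx : x ∈ W12) : f x ∈ W12 := by
  rw [← h.map_W12 h0]
  exact ⟨x, hx, rfl⟩

theorem f_mem_W1 (h0 : f f0 = f0) {x : L2} : f x ∈ W1 ↔ x ∈ W1 := by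
  rw [mem_W1, mem_W1]
  constructor
  · rintro (h | h)
    · left; exact f.injective (h.trans (map_zero f).symm)
    · right; exact f.injective (h.trans h0.symm)
  · rintro (rfl | rfl)
    · left; exact map_zero f
    · right; exact h0

end Cfsg.Agent.ConwayFacts.NormL2
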