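import Cfsg.Agent.ConwayFacts.NormFrame

/-!
# The normaliser of `Co1` in the general linear group of `Λ / 2Λ`: end of the proof
-/

set_option autoImplicit false

namespace Cfsg.Agent.ConwayFacts.NormPerm

open Cfsg Cfsg.Spor
open Cfsg.Agent.ConwayFacts.NormL2 Cfsg.Agent.ConwayFacts.NormFrame
open Cfsg.Agent.MonsterU.Lam2
open Cfsg.Agent.MonsterU.CoFrame Cfsg.Agent.MonsterU.CoFrameAct Cfsg.Agent.MonsterU.CoFrameSep
open Cfsg.Agent.MonsterU.CoFrameL2
open Cfsg.Agent.SporadicA
open Cfsg.Agent.SporadicA.Co0Mono hiding smul_add smul_sub smul_neg smul_zero mk_smul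
open Cfsg.Agent.SporadicA.Co1Simple
open Cfsg.Agent.SporadicStructure.Co0Base (e8 e8_coe)
open Cfsg.Agent.SporadicStructure.LeechBase (zmod2_cases)
open Cfsg.Agent.CoOneType.SignFacts
open Cfsg.Agent.CoOneType.CoOneE (pr pr_surjective E mem_E)

/-! ### Sets of points as words -/

/-- characteristic function -/
def ch (s : Finset GolayPt) : GolayPt → ZMod 2 := fun i => if i ∈ s then 1 else 0

theorem ch_apply (s : Finset GolayPt) (i : GolayPt) : ch s i = if i ∈ s then 1 else 0 := rfl

theorem sum_ch (s : Finset GolayPt) : ∑ i, ch s i = (s.card : ZMod 2) := by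
  unfold ch
  rw [Finset.sum_ite_mem, Finset.univ_inter, Finset.sum_const, nsmul_eq_mul, mul_one]

theorem sum_ch_two {s : Finset GolayPt} (h : s.card = 2) : ∑ i, ch s i = 0 := by
  rw [sum_ch, h]; rfl

theorem Dw_ch (s : Finset GolayPt) : Dw (ch s) = ∑ i ∈ s, D i := by
  unfold Dw ch
  rw [← Finset.sum_subset (Finset.subset_univ s)]
  · exact Finset.sum_congr rfl fun i hi => by rw [if_pos hi, one_smul]
  · intro i _ hi
    rw [if_neg hi, zero_smul]

theorem Dw_pair {i j : GolayPt} (h : i ≠ j) : Dw (ch {i, j}) = D i + D j := by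
  rw [Dw_ch, Finset.sum_pair h]

/-- A word supported by a small set in the kernel vanishes. -/
theorem eq_zero_of_small {w : GolayPt → ZMod 2} (h : Dw w ∈ W1) (h0 : ∑ i, w i = 0) (s : Finset GolayPt)
    (hs : ∀ i, w i ≠ 0 → i ∈ s) (h8 : s.card < 8) : w = 0 :=
  eq_zero_of_lt ((Dw_mem_W1_iff h0).1 h) s hs h8

/-! ### The star lemma -/

theorem star {J : Type*} (A : J → Finset GolayPt) (hc : ∀ j, (A j).card = 2)
    (h1 : ∀ j k, j ≠ k → (A j ∩ A k).card = 1)
    (h2 : ∀ j k l, j ≠ k → j ≠ l → k ≠ l → ch (A j) + ch (A k) + ch (A l) ≠ 0) (a b : J) (hab : a ≠ b) :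
    ∃ p, ∀ j, p ∈ A j := by
  classical
  obtain ⟨p, hp⟩ := Finset.card_eq_one.1 (h1 a b hab)
  have hpa : p ∈ A a ∩ A b := by rw [hp]; exact Finset.mem_singleton_self p
  rw [Finset.mem_inter] at hpa
  refine ⟨p, fun l => ?_⟩
  by_contra hpl
  have hla : l ≠ a := by rintro rfl; exact hpl hpa.1
  have hlb : l ≠ b := by rintro rfl; exact hpl hpa.2
  -- the other points
  have other : ∀ k, p ∈ A k → ∃ x, x ≠ p ∧ A k = {p, x} := by
    intro k hk
    obtain ⟨x, y, hxy, hA⟩ := Finset.card_eq_two.1 (hc k)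
    rw [hA] at hk
    rcases Finset.mem_insert.1 hk with h | h
    · exact ⟨y, by rw [h]; exact hxy.symm, by rw [hA, h]⟩
    · rw [Finset.mem_singleton] at h
      exact ⟨x, by rw [h]; exact hxy, by rw [hA, h, Finset.pair_comm]⟩
  obtain ⟨x, hxp, hx⟩ := other a hpa.1
  obtain ⟨y, hyp, hy⟩ := other b hpa.2
  have hxy : x ≠ y := by
    rintro rfl
    have h3 := h1 a b hab
    rw [hx, hy, Finset.inter_self, Finset.card_pair hxp.symm] at h3
    norm_num at h3
  have hxl : x ∈ A l := by
    obtain ⟨q, hq⟩ := Finset.card_eq_one.1 (h1 l a hla)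
    have hq2 : q ∈ A l ∩ A a := by rw [hq]; exact Finset.mem_singleton_self q
    rw [Finset.mem_inter, hx, Finset.mem_insert, Finset.mem_singleton] at hq2
    rcases hq2 with ⟨h3, rfl | rfl⟩
    · exact absurd h3 hpl
    · exact h3
  have hyl : y ∈ A l := by
    obtain ⟨q, hq⟩ := Finset.card_eq_one.1 (h1 l b hlb)
    have hq2 : q ∈ A l ∩ A b := by rw [hq]; exact Finset.mem_singleton_self q
    rw [Finset.mem_inter, hy, Finset.mem_insert, Finset.mem_singleton] at hq2
    rcases hq2 with ⟨h3, rfl | rfl⟩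
    · exact absurd h3 hpl
    · exact h3
  have hl : A l = {x, y} := by
    symm
    apply Finset.eq_of_subset_of_card_le
    · intro z hz
      rw [Finset.mem_insert, Finset.mem_singleton] at hz
      rcases hz with rfl | rfl
      · exact hxl
      · exact hyl
    · rw [hc l, Finset.card_pair hxy]
  apply h2 a b l hab hla.symm hlb.symm
  rw [hx, hy, hl]
  funext i
  show (if i ∈ ({p, x} : Finset GolayPt) then (1 : ZMod 2) else 0) + (if i ∈ ({p, y} : Finset GolayPt) then 1 else 0) +
    (if i ∈ ({x, y} : Finset GolayPt) then 1 else 0) = 0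
  simp only [Finset.mem_insert, Finset.mem_singleton]
  by_cases e1 : i = p
  · subst e1
    simp [hxp.symm, hyp.symm]
    decide
  · by_cases e2 : i = x
    · subst e2
      simp [e1, hxy]
      decide
    · by_cases e3 : i = y
      · subst e3
        simp [e1, e2]
        decide
      · simp [e1, e2, e3]

/-! ### The permutation -/

variable {f : L2 ≃+ L2} {α : MulAut Co1}

theorem f_smul (f : L2 ≃+ L2) (a : ZMod 2) (x : L2) : f (a • x) = a • f x := by
  rcases zmod2_cases a with rfl | rfl
  · rw [zero_smul, zero_smul, map_zero]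
  · rw [one_smul, one_smul]

theorem exists_pair_image (h : Nor f α) (h0 : f f0 = f0) {i j : GolayPt} (hij : i ≠ j) :
    ∃ A : Finset GolayPt, A.card = 2 ∧ f (D i + D j) + Dw (ch A) ∈ W1 := by
  obtain ⟨p, q, hpq, h1⟩ := duad_of_type (h.mem_W12 h0 (W12.add_mem (D_mem i) (D_mem j)))
    (h.type_two (isType_duad hij))
  exact ⟨{p, q}, Finset.card_pair hpq, by rw [Dw_pair hpq]; exact h1⟩

theorem W1_add {x y z : L2} (hx : x + y ∈ W1) (hz : x + z ∈ W1) : y + z ∈ W1 := by
  have h1 := W1.add_mem hx hz
  have h2 : x + y + (x + z) = y + z := by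
    rw [add_add_add_comm, add_self, zero_add]
  rwa [h2] at h1

theorem card_symm {A B C : Finset GolayPt} (hA : A.card = 2) (hB : B.card = 2) (hC : C.card = 2)
    (h : ch A + ch B + ch C = 0) : (A ∩ B).card = 1 := by
  classical
  have hC' : C = (A \ B) ∪ (B \ A) := by
    ext i
    have h1 : (if i ∈ A then (1 : ZMod 2) else 0) + (if i ∈ B then 1 else 0) + (if i ∈ C then 1 else 0) = 0 :=
      congrFun h i
    rw [Finset.mem_union, Finset.mem_sdiff, Finset.mem_sdiff]
    by_cases a : i ∈ A <;> by_cases b : i ∈ B <;> by_cases c : i ∈ C <;> simp [a, b, c] at h1 ⊢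
    all_goals exact absurd h1 (by decide)
  have hd : Disjoint (A \ B) (B \ A) := by
    rw [Finset.disjoint_left]
    intro i h1 h2
    rw [Finset.mem_sdiff] at h1 h2
    exact h1.2 h2.1
  have h1 := Finset.card_sdiff_add_card_inter A B
  have h2 := Finset.card_sdiff_add_card_inter B A
  rw [Finset.inter_comm] at h2
  rw [hC', Finset.card_union_of_disjoint hd] at hC
  omega

theorem exists_perm (h : Nor f α) (h0 : f f0 = f0) :
    ∃ σ : Equiv.Perm GolayPt, ∀ i, f (D i) + (D (σ i) + D (σ none)) ∈ W1 := by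
  classical
  have hA : ∀ j : ZMod 23, ∃ A : Finset GolayPt, A.card = 2 ∧ f (D (some j)) + Dw (ch A) ∈ W1 := by
    intro j
    obtain ⟨A, h1, h2⟩ := exists_pair_image h h0 (i := some j) (j := none) (by simp)
    rw [D_none, add_zero] at h2
    exact ⟨A, h1, h2⟩
  choose A hAc hAf using hA
  have hsome : ∀ {j k : ZMod 23}, j ≠ k → (some j : GolayPt) ≠ some k := fun h e => h (Option.some_injective _ e)
  -- two of them meet in one point
  have hint : ∀ j k, j ≠ k → (A j ∩ A k).card = 1 := by
    intro j k hjk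
    obtain ⟨B, hB, hBf⟩ := exists_pair_image h h0 (hsome hjk)
    apply card_symm (hAc j) (hAc k) hB
    apply eq_zero_of_small (s := A j ∪ A k ∪ B)
    · rw [Dw_add, Dw_add]
      rw [map_add] at hBf
      have h1 := W1.add_mem (hAf j) (hAf k)
      rw [add_add_add_comm] at h1
      exact W1_add h1 hBf
    · show ∑ i, ((ch (A j) i + ch (A k) i) + ch B i) = 0
      rw [Finset.sum_add_distrib, Finset.sum_add_distrib, sum_ch_two (hAc j), sum_ch_two (hAc k), sum_ch_two hB]
      rfl
    · intro i hi
      by_contra hn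
      simp only [Finset.mem_union, not_or] at hn
      apply hi
      show (if i ∈ A j then (1 : ZMod 2) else 0) + (if i ∈ A k then 1 else 0) + (if i ∈ B then 1 else 0) = 0
      rw [if_neg hn.1.1, if_neg hn.1.2, if_neg hn.2]
      rfl
    · have h1 := Finset.card_union_le (A j ∪ A k) B
      have h2 := Finset.card_union_le (A j) (A k)
      rw [hAc j, hAc k] at h2
      rw [hB] at h1
      omega
  -- no triangles
  have htri : ∀ j k l, j ≠ k → j ≠ l → k ≠ l → ch (A j) + ch (A k) + ch (A l) ≠ 0 := by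
    intro j k l hjk hjl hkl h3
    have h1 := W1.add_mem (W1.add_mem (hAf j) (hAf k)) (hAf l)
    have h4 : f (D (some j)) + Dw (ch (A j)) + (f (D (some k)) + Dw (ch (A k))) +
        (f (D (some l)) + Dw (ch (A l))) =
        f (D (some j) + D (some k) + D (some l)) + Dw (ch (A j) + ch (A k) + ch (A l)) := by
      rw [Dw_add, Dw_add, map_add, map_add]; abel
    rw [h4, h3, Dw_zero, add_zero, f_mem_W1 h0] at h1
    have h5 : D (some j) + D (some k) + D (some l) = Dw (ch {none, some j, some k, some l}) := by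
      rw [Dw_ch, Finset.sum_insert, Finset.sum_insert, Finset.sum_insert, Finset.sum_singleton, D_none, zero_add,
        add_assoc]
      · simpa using hkl
      · simp [hjk, hjl]
      · simp
    rw [h5] at h1
    have hcard : ({none, some j, some k, some l} : Finset GolayPt).card = 4 := by
      rw [Finset.card_insert_of_notMem (by simp), Finset.card_insert_of_notMem (by simp [hjk, hjl]),
        Finset.card_pair (hsome hkl)]
    have h6 := eq_zero_of_small h1 (by rw [sum_ch, hcard]; rfl) {none, some j, some k, some l} (by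
      intro i hi
      by_contra hn
      apply hi
      rw [ch_apply, if_neg hn]) (by rw [hcard]; norm_num)
    have h7 := congrFun h6 none
    rw [ch_apply, if_pos (by simp)] at h7
    exact absurd h7 (by decide)
  obtain ⟨p, hp⟩ := star A hAc hint htri 0 1 (by decide)
  have hq : ∀ j, ∃ q, q ≠ p ∧ A j = {p, q} := by
    intro j
    obtain ⟨x, y, hxy, hA⟩ := Finset.card_eq_two.1 (hAc j)
    have hk := hp j
    rw [hA] at hk
    rcases Finset.mem_insert.1 hk with h | h
    · exact ⟨y, by rw [h]; exact hxy.symm, by rw [hA, h]⟩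
    · rw [Finset.mem_singleton] at h
      exact ⟨x, by rw [h]; exact hxy, by rw [hA, h, Finset.pair_comm]⟩
  choose q hqp hqA using hq
  let s : GolayPt → GolayPt := fun i => i.elim p q
  have hinj : Function.Injective s := by
    intro i j hij
    cases i with
    | none =>
      cases j with
      | none => rfl
      | some b => exact absurd (show p = q b from hij).symm (hqp b)
    | some a =>
      cases j with
      | none => exact absurd (show q a = p from hij) (hqp a)
      | some b =>
        by_contra hne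
        have hab : a ≠ b := fun e => hne (by rw [e])
        have h1 := hint a b hab
        rw [hqA a, hqA b, show q a = q b from hij, Finset.inter_self, Finset.card_pair (hqp b).symm] at h1
        norm_num at h1
  refine ⟨Equiv.ofBijective s (Finite.injective_iff_bijective.1 hinj), fun i => ?_⟩
  show f (D i) + (D (s i) + D p) ∈ W1
  cases i with
  | none =>
    show f (D none) + (D p + D p) ∈ W1
    rw [D_none, map_zero, add_self, zero_add]
    exact W1.zero_mem
  | some j =>
    show f (D (some j)) + (D (q j) + D p) ∈ W1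
    have h1 := hAf j
    rw [hqA j, Dw_pair (hqp j).symm, add_comm (D p)] at h1
    exact h1

/-- the permutation preserves the code -/
theorem perm_mem (h0 : f f0 = f0) {σ : Equiv.Perm GolayPt}
    (hσ : ∀ i, f (D i) + (D (σ i) + D (σ none)) ∈ W1) : σ ∈ M24 := by
  rw [M24Mem.mem_M24_iff]
  intro w hw
  have hsum : ∑ i, w i = 0 := by
    have h1 := Co0Basic.code_dot hw Cfsg.Agent.SporadicStructure.LeechBase.one_mem_golayCode
    rw [← h1]
    exact Finset.sum_congr rfl fun i _ => by rw [Pi.one_apply, mul_one]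
  have h1 : Dw w ∈ W1 := (Dw_mem_W1_iff hsum).2 hw
  have h2 : f (Dw w) ∈ W1 := (f_mem_W1 h0).2 h1
  have h3 : f (Dw w) + Dw (w ∘ σ.symm) ∈ W1 := by
    have e1 : f (Dw w) = ∑ i, w i • f (D i) := by
      unfold Dw
      rw [map_sum]
      exact Finset.sum_congr rfl fun i _ => f_smul f _ _
    have e2 : Dw (w ∘ σ.symm) = ∑ i, w i • (D (σ i) + D (σ none)) := by
      have e3 : ∑ i, w i • (D (σ i) + D (σ none)) = ∑ i, w i • D (σ i) + (∑ i, w i) • D (σ none) := by
        rw [Finset.sum_smul, ← Finset.sum_add_distrib]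
        exact Finset.sum_congr rfl fun i _ => smul_add _ _ _
      rw [e3, hsum, zero_smul, add_zero]
      unfold Dw
      rw [← Equiv.sum_comp σ]
      exact Finset.sum_congr rfl fun i _ => by rw [Function.comp_apply, Equiv.symm_apply_apply]
    rw [e1, e2, ← Finset.sum_add_distrib]
    refine sum_mem fun i _ => ?_
    rw [← smul_add]
    exact smul_mem' _ (hσ i)
  have hsum' : ∑ i, (w ∘ σ.symm) i = 0 := by
    rw [← hsum]
    exact Equiv.sum_comp σ.symm w
  rw [← Dw_mem_W1_iff hsum']
  have h4 := W1.add_mem h2 h3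
  rwa [← add_assoc, add_self, zero_add] at h4

/-- the action of a permutation on the duads -/
theorem perm_D (σ : M24) (i : GolayPt) : permCo0 σ • D i =
    D ((σ : Equiv.Perm GolayPt) i) + D ((σ : Equiv.Perm GolayPt) none) := by
  rw [← cl_duad]
  unfold D
  rw [smul_cl]
  congr 1
  apply Subtype.ext
  funext k
  rw [perm_coe, duad_coe, duad_coe]
  simp only [Equiv.symm_apply_eq]

theorem sign_D (c : golayCode) (i : GolayPt) : signCo0 c • D i =
    D i + ((c : GolayPt → ZMod 2) i + (c : GolayPt → ZMod 2) none) • f0 := by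
  rw [← pair_duad i none c]
  unfold D f0
  rw [smul_cl]
  rcases zmod2_cases (pair (duad i none) c) with h | h
  · rw [h, zero_smul, add_zero, ← cong_iff_cl]
    exact sign_V12_zero (duad_mem i none) h
  · rw [h, one_smul, ← map_add, ← cong_iff_cl]
    exact sign_V12_one (duad_mem i none) h

/-- `W12` is generated by the `D i` and the frame class -/
theorem closure_W12 {U : AddSubgroup L2} (h0 : f0 ∈ U) (hD : ∀ i, D i ∈ U) : W12 ≤ U := by
  intro x hx
  obtain ⟨v, rfl⟩ := cl_surjective x
  have hv := Cfsg.Agent.MonsterU.CoFrame23.closure_V12 (cl_mem_W12.1 hx)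
  refine AddSubgroup.closure_induction (p := fun v _ => cl v ∈ U) ?_ ?_ ?_ ?_ hv
  · rintro w (⟨n, rfl⟩ | hw)
    · show cl (x23 ^ n • duad none (some 0)) ∈ U
      rw [Cfsg.Agent.MonsterU.CoFrame23.pow_duad, cl_duad]
      exact U.add_mem (hD _) (hD _)
    · have h1 := (mem_W1 _).1 (cl_mem_W1.2 hw)
      rcases h1 with h1 | h1 <;> rw [h1]
      · exact U.zero_mem
      · exact h0
  · show cl 0 ∈ U
    rw [map_zero]; exact U.zero_mem
  · intro a b _ _ ha hb
    show cl (a + b) ∈ U
    rw [map_add]; exact U.add_mem ha hb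
  · intro a _ ha
    show cl (-a) ∈ U
    rw [cl_neg]; exact ha

/-- A normalising map which fixes `f0` may be corrected to fix all `D i`. -/
theorem exists_correct (h : Nor f α) (h0 : f f0 = f0) :
    ∃ s : Co1, s • f f0 = f0 ∧ ∀ i, s • f (D i) = D i := by
  obtain ⟨σ, hσ⟩ := exists_perm h h0
  have hM := perm_mem h0 hσ
  let τ : M24 := ⟨σ, hM⟩
  -- correction by the permutation
  let P : Co0 := (permCo0 τ)⁻¹
  have hP : ∀ x : L2, P • x = x ↔ permCo0 τ • x = x := by
    intro x
    constructor
    · intro hx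
      calc permCo0 τ • x = permCo0 τ • (P • x) := by rw [hx]
        _ = x := smul_inv_smul _ _
    · intro hx
      calc P • x = P • (permCo0 τ • x) := by rw [hx]
        _ = x := inv_smul_smul _ _
  have hPf0 : P • f0 = f0 := smul_f0 (pr_mem_F (N.inv_mem (perm_mem_N τ)))
  have hP1 : ∀ i, P • f (D i) + D i ∈ W1 := by
    intro i
    have h1 := hσ i
    have h2 : P • (f (D i) + (D (σ i) + D (σ none))) ∈ W1 :=
      F_mem_W1 (s := pr P) (pr_mem_F (N.inv_mem (perm_mem_N τ))) h1
    rw [smul_add] at h2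
    have h3 : P • (D (σ i) + D (σ none)) = D i := by
      rw [← perm_D τ i]
      exact inv_smul_smul _ _
    rwa [h3] at h2
  -- the word
  have hex : ∀ i, ∃ a : ZMod 2, P • f (D i) = D i + a • f0 := by
    intro i
    rcases (mem_W1 _).1 (hP1 i) with h1 | h1
    · refine ⟨0, ?_⟩
      rw [zero_smul, add_zero]
      exact eq_of_add_eq_zero h1
    · refine ⟨1, ?_⟩
      rw [one_smul, ← h1, add_comm, add_assoc, add_self, add_zero]
  choose c hc using hex
  have hc0 : c none = 0 := by
    rcases zmod2_cases (c none) with h1 | h1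
    · exact h1
    · exfalso
      have h2 := hc none
      rw [D_none, map_zero, h1, one_smul, zero_add, smul_zero] at h2
      exact f0_ne h2.symm
  have hcc : c ∈ golayCode := by
    apply mem_code_of_orth
    intro w
    have hsum : ∑ i, (w : GolayPt → ZMod 2) i = 0 := by
      have h1 := Co0Basic.code_dot w.2 Cfsg.Agent.SporadicStructure.LeechBase.one_mem_golayCode
      rw [← h1]
      exact Finset.sum_congr rfl fun i _ => by rw [Pi.one_apply, mul_one]
    have h1 : Dw w ∈ W1 := (Dw_mem_W1_iff hsum).2 w.2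
    have h2 : P • f (Dw w) = Dw w := by
      rcases (mem_W1 _).1 h1 with h3 | h3
      · rw [h3, map_zero, smul_zero]
      · rw [h3, h0, hPf0]
    have h3 : P • f (Dw w) = Dw w + (∑ i, c i * (w : GolayPt → ZMod 2) i) • f0 := by
      unfold Dw
      rw [map_sum, Finset.smul_sum, Finset.sum_smul, ← Finset.sum_add_distrib]
      refine Finset.sum_congr rfl fun i _ => ?_
      rw [f_smul]
      rcases zmod2_cases ((w : GolayPt → ZMod 2) i) with h4 | h4
      · rw [h4, zero_smul, zero_smul, smul_zero, mul_zero, zero_smul, add_zero]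
      · rw [h4, one_smul, one_smul, mul_one]
        exact hc i
    rw [h2] at h3
    have h4 := left_eq_add.1 h3
    rcases zmod2_cases (∑ i, c i * (w : GolayPt → ZMod 2) i) with h5 | h5
    · exact h5
    · rw [h5, one_smul] at h4
      exact absurd h4 f0_ne
  let C : golayCode := ⟨c, hcc⟩
  refine ⟨QuotientGroup.mk (signCo0 C * P), ?_, fun i => ?_⟩
  · rw [mk_smul, h0, mul_smul, hPf0]
    exact smul_f0 (pr_mem_F (sign_mem_N C))
  · rw [mk_smul, mul_smul, hc i, smul_add, sign_D]
    have h1 : signCo0 C • (c i • f0) = c i • f0 := by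
      have h2 : signCo0 C • f0 = f0 := smul_f0 (pr_mem_F (sign_mem_N C))
      rcases zmod2_cases (c i) with h3 | h3
      · rw [h3, zero_smul, smul_zero]
      · rw [h3, one_smul, h2]
    rw [h1]
    show D i + (c i + c none) • f0 + c i • f0 = D i
    rw [hc0, add_zero, add_assoc, add_self, add_zero]

/-- The end: `f` fixes `f0` and all `D i`. -/
theorem eq_id (h : Nor f α) (h0 : f f0 = f0) (hD : ∀ i, f (D i) = D i) : ∀ x, f x = x := by
  have hfix : ∀ x ∈ W12, f x = x := by
    have h1 : W12 ≤ AddMonoidHom.eqLocus f.toAddMonoidHom (AddMonoidHom.id L2) :=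
      closure_W12 (show f f0 = f0 from h0) (fun i => show f (D i) = D i from hD i)
    exact fun x hx => h1 hx
  -- `α` is trivial on `F`
  have hα : ∀ g ∈ F, α g = g := by
    intro g hg
    have h1 : α g * g⁻¹ = 1 := by
      have h3 : α g * g⁻¹ ∈ F := F.mul_mem ((h.mem_F h0 g).2 hg) (F.inv_mem hg)
      have h2 : ∀ x ∈ W12, (α g * g⁻¹) • x = x := by
        intro x hx
        have h4 : g⁻¹ • x ∈ W12 := F_mem_W12 (F.inv_mem hg) hx
        have h5 := h g (g⁻¹ • x)
        rw [hfix _ h4, smul_inv_smul, hfix x hx, ← mul_smul] at h5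
        exact h5.symm
      refine E_eq_one_of_W12 (mem_E_of_trivial h3 fun x hx => ?_) h2
      rw [h2 x hx, sub_self]; exact W1.zero_mem
    exact mul_inv_eq_one.1 h1
  have hcomm : ∀ g ∈ F, ∀ x, f (g • x) = g • f x := by
    intro g hg x
    rw [h, hα g hg]
  -- the vector `u0`
  have hu : f (cl u0) = cl u0 := by
    have hX : Cfsg.Agent.MonsterU.CoFrameIrr.X • cl u0 = cl u0 := by
      rw [Cfsg.Agent.MonsterU.CoFrameIrr.X_smul_cl]
      exact congrArg cl Cfsg.Agent.MonsterU.CoFrame23.x23_u0
    have h1 : Cfsg.Agent.MonsterU.CoFrameIrr.X • f (cl u0) = f (cl u0) := by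
      rw [← hcomm _ Cfsg.Agent.MonsterU.CoFrameIrr.X_mem_F, hX]
    obtain ⟨v, hv⟩ := cl_surjective (f (cl u0))
    rw [← hv, Cfsg.Agent.MonsterU.CoFrameIrr.X_smul_cl, ← cong_iff_cl] at h1
    have hu2 : IsType 2 (cl u0) := ⟨u0, by decide, rfl⟩
    rcases Cfsg.Agent.MonsterU.CoFrame23.fixed_cong' h1 with h2 | h2 | h2 | h2 <;> rw [cong_iff_cl, hv] at h2
    · exfalso
      rw [map_zero] at h2
      exact ne_zero_of_type (Or.inl rfl) hu2 (f.injective (h2.trans (map_zero f).symm))
    · exfalso
      have h3 : cl u0 = f0 := f.injective (h2.trans h0.symm)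
      have h4 : cl u0 ∈ W23 := by
        rw [h3]; exact W12_le_W23 (W1_le_W12 f0_mem_W1)
      exact u0_not_mem (cl_mem_W23.1 h4)
    · exact h2
    · exfalso
      obtain ⟨w, hw, hw2⟩ := h.type_two hu2
      rw [h2] at hw2
      have h3 : qf (cl w) = 0 := by
        rw [qf_cl_eq_zero, hw]; norm_num
      rw [hw2, qf_cl_eq_zero] at h3
      revert h3
      decide
  -- the fixed points
  let U : AddSubgroup L2 := AddMonoidHom.eqLocus f.toAddMonoidHom (AddMonoidHom.id L2)
  have hU : ∀ s ∈ F, ∀ x ∈ U, s • x ∈ U := by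
    intro s hs x hx
    show f (s • x) = s • x
    rw [hcomm s hs, show f x = x from hx]
  have huU : cl u0 ∈ U := hu
  have hu23 : cl u0 ∉ W23 := fun h1 => u0_not_mem (cl_mem_W23.1 h1)
  have hbot : (0 : L2) ∈ W23 := W23.zero_mem
  have htop : U = ⊤ := by
    rcases Cfsg.Agent.MonsterU.CoFrameIrr.uniserial U hU with h1 | h1 | h1 | h1 | h1
    · rw [h1, AddSubgroup.mem_bot] at huU
      exact absurd (huU ▸ hbot) hu23
    · rw [h1] at huU
      exact absurd (W12_le_W23 (W1_le_W12 huU)) hu23
    · rw [h1] at huU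
      exact absurd (W12_le_W23 huU) hu23
    · rw [h1] at huU
      exact absurd huU hu23
    · exact h1
  intro x
  have : x ∈ U := by rw [htop]; trivial
  exact this

/-- **The normaliser of `Co1` in `GL(Λ / 2Λ)` is `Co1`.** -/
theorem exists_smul (h : Nor f α) : ∃ s : Co1, ∀ x, f x = s • x := by
  obtain ⟨s, hs⟩ := h.exists_fix
  have h1 := h.comp s
  obtain ⟨t, ht, htD⟩ := exists_correct h1 hs
  have h2 := h1.comp t
  have h3 := eq_id h2 ht htD
  refine ⟨s⁻¹ * t⁻¹, fun x => ?_⟩
  have h4 : t • s • f x = x := h3 x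
  rw [mul_smul, ← eq_inv_smul_iff.2 (eq_inv_smul_iff.2 h4)]

end Cfsg.Agent.ConwayFacts.NormPerm
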